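import Cfsg.Agent.H196.S8.ThSocTwo
import Cfsg.Agent.H678.DG.Tits
import Cfsg.Agent.H707.RowTits

/-!
# S4908: the row SOC1 of `Th` (helper164)

No prime power is an admissible degree, the degrees `≠ 1` are at least 248, and the primes of `|Th|` are
2, 3, 5, 7, 13, 19, 31.
-/

set_option autoImplicit false
set_option maxRecDepth 100000

namespace Cfsg.Agent.H164.S8.Th

open Cfsg Subgroup
open Cfsg.Agent.H691.AN (AlmostSimple)
open Cfsg.Agent.H196.S8 Cfsg.Agent.H196.S8.Th

universe u v

section

variable {A : Type u} [Group A] [Finite A] {S : Subgroup A} (hA : AlmostSimple A S)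
  (hD : ∀ d ∈ charDegrees A, d ∣ 90745943887872000 ∧ ok d = true)

include hA hD

theorem pr {p : ℕ} (hp : p.Prime) (hd : p ∣ Nat.card S) : p ∣ 90745943887872000 := by
  obtain ⟨d, h1, h2⟩ := prime_deg hA hp hd
  exact h2.trans (hD d h1).1

theorem low {a : ℕ} (hout : Nat.card (Out S) ≤ 2) (ha : a ∈ charDegrees S) (ha1 : a ≠ 1) (ha2 : a < 124) : False := by
  have ha0 : 0 < a := H424.DegTools.pos_of_mem ha
  rcases two_deg hA hout ha with h | h
  · exact ha1 (min_chk a (List.mem_range.2 (by omega)) (hD _ h).1 (hD _ h).2)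
  · have := min_chk (2 * a) (List.mem_range.2 (by omega)) (hD _ h).1 (hD _ h).2
    omega

theorem lie {r : ℕ} (hr : r.Prime) (h : IsLieTypeChar r S) : False := by
  obtain ⟨v, hv, h1⟩ := lie_pp hA hr h
  exact no_pp hr hv (hD _ h1).1 (hD _ h1).2

theorem alt {m : ℕ} (hm : 5 ≤ m) (e : S ≃* alternatingGroup (Fin m)) : False := by
  rcases Nat.lt_or_ge m 7 with h7 | h7
  · have : m = 5 ∨ m = 6 := by omega
    rcases this with rfl | rfl
    · exact lie hA hD (by norm_num) (lie_five e)
    · exact lie hA hD (r := 3) (by norm_num) (H679.isLie_six ⟨e⟩)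
  · have h10 : m ≤ 10 := by
      by_contra hcon
      have h1 := pr hA hD (p := 11) (by norm_num)
        (by rw [Nat.card_congr e.toEquiv]; exact prime_dvd_alt (by norm_num) (by norm_num) hm (by omega))
      norm_num at h1
    have h1 := hD _ (alt_deg hA h7 e)
    have := min_chk (m - 1) (List.mem_range.2 (by omega)) h1.1 h1.2
    omega

theorem tits (h : Lie.IsoTits S) : False := by
  have hout := H489.card_out_tits h
  obtain ⟨e⟩ := h
  obtain ⟨f⟩ := H707.RowTits.equiv
  exact low hA hD hout (mem_of_equiv (e.trans f) H678.DG.Tits.deg_78) (by norm_num) (by norm_num)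

theorem spor (h : IsSporadicGroup S) : Spor.IsoTh S := by
  have hout := H489.card_out_sporadic h
  have kp : ∀ {p N : ℕ}, p.Prime → Nat.card S = N → p ∣ N → ¬ p ∣ 90745943887872000 → Spor.IsoTh S :=
    fun hp h1 h2 h3 => (h3 (pr hA hD hp (by rw [h1]; exact h2))).elim
  rcases h with h | h | h | h | h | h | h | h | h | h | h | h | h | h | h | h | h | h | h | h | h | h | h | h | h | h
  · exact kp (p := 11) (by norm_num) (NotCT.Orders.m11 h) (by norm_num) (by norm_num)
  · exact kp (p := 11) (by norm_num) (NotCT.Orders.m12 h) (by norm_num) (by norm_num)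
  · exact kp (p := 11) (by norm_num) (NotCT.Orders.m22 h) (by norm_num) (by norm_num)
  · exact kp (p := 11) (by norm_num) (NotCT.Orders.m23 h) (by norm_num) (by norm_num)
  · exact kp (p := 11) (by norm_num) (NotCT.Orders.m24 h) (by norm_num) (by norm_num)
  · exact kp (p := 11) (by norm_num) (NotCT.Orders.j1 h) (by norm_num) (by norm_num)
  · exact (low hA hD hout (H672.SporIM.j2 h).2 (by norm_num) (by norm_num)).elim
  · exact kp (p := 17) (by norm_num) (NotCT.Orders.j3 h) (by norm_num) (by norm_num)
  · exact kp (p := 11) (by norm_num) (NotCT.Orders.j4 h) (by norm_num) (by norm_num)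
  · exact kp (p := 11) (by norm_num) (NotCT.Orders.co1 h) (by norm_num) (by norm_num)
  · exact kp (p := 11) (by norm_num) (NotCT.Orders.co2 h) (by norm_num) (by norm_num)
  · exact kp (p := 11) (by norm_num) (NotCT.Orders.co3 h) (by norm_num) (by norm_num)
  · exact kp (p := 11) (by norm_num) (NotCT.Orders.mcl h) (by norm_num) (by norm_num)
  · exact kp (p := 11) (by norm_num) (NotCT.Orders.hs h) (by norm_num) (by norm_num)
  · exact kp (p := 11) (by norm_num) (NotCT.Orders.suz h) (by norm_num) (by norm_num)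
  · exact kp (p := 17) (by norm_num) (NotCT.Orders.he h) (by norm_num) (by norm_num)
  · exact kp (p := 29) (by norm_num) (NotCT.Orders.ru h) (by norm_num) (by norm_num)
  · exact kp (p := 11) (by norm_num) (NotCT.Orders.on h) (by norm_num) (by norm_num)
  · exact kp (p := 11) (by norm_num) (NotCT.Orders.ly h) (by norm_num) (by norm_num)
  · exact kp (p := 11) (by norm_num) (NotCT.Orders.fi22 h) (by norm_num) (by norm_num)
  · exact kp (p := 11) (by norm_num) (NotCT.Orders.fi23 h) (by norm_num) (by norm_num)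
  · exact kp (p := 11) (by norm_num) (NotCT.Orders.fi24 h) (by norm_num) (by norm_num)
  · exact kp (p := 11) (by norm_num) (NotCT.Orders.hn h) (by norm_num) (by norm_num)
  · exact h
  · exact kp (p := 11) (by norm_num) (NotCT.Orders.b h) (by norm_num) (by norm_num)
  · exact kp (p := 11) (by norm_num) (NotCT.Orders.m h) (by norm_num) (by norm_num)

theorem main : Spor.IsoTh S := by
  have := hA.simple
  rcases exists_split S hA.nonab with ⟨l, hl, ⟨e⟩⟩ | ⟨r, hr, h⟩ | h | h
  · exact (alt hA hD hl e).elim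
  · exact (lie hA hD hr h).elim
  · exact (tits hA hD h).elim
  · exact spor hA hD h

end

/-- **SOC1 for `Th`**, model version -/
theorem soc1_iso {X : Type v} [Group X] (hX : Spor.IsoTh X) {D : Set ℕ} (hD : H704.S8.Deg 1 X D) :
    H704.S8.Soc1.{u} D X := by
  intro A _ _ S hA h
  obtain rfl : D = charDegrees X := hD.resolve_right fun h => absurd h.1 (by norm_num)
  obtain ⟨e⟩ := main hA fun d hd => deg_X hX (h hd)
  obtain ⟨f⟩ := hX
  exact ⟨e.trans f.symm⟩

/-- **SOC1 for `Th`** -/
theorem soc1 {X : Type v} [Group X] [Finite X] (hX : Cfsg.IsTh X) {D : Set ℕ} (hD : H704.S8.Deg 1 X D) :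
    H704.S8.Soc1.{u} D X := soc1_iso (isoTh hX) hD

end Cfsg.Agent.H164.S8.Th
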